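import Cfsg.Agent.Spor.ThLN1.D0

set_option autoImplicit false
set_option maxRecDepth 100000000
set_option Elab.async false

namespace Cfsg.Agent.Spor.ThLN1

theorem ok0 : Net.okb 1 n0 = true := by decide +kernel

theorem ok1 : Net.okb 1 n1 = true := by decide +kernel

theorem ok2 : Net.okb 1 n2 = true := by decide +kernel

theorem ok3 : Net.okb 1 n3 = true := by decide +kernel

theorem ok4 : Net.okb 1 n4 = true := by decide +kernel

theorem ok5 : Net.okb 1 n5 = true := by decide +kernel

theorem rel0 : T.rel 1 [1, 1] 0 1 = true := by decide +kernel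

theorem rel1 : T.rel 1 [2, 2] 0 1 = true := by decide +kernel

theorem rel2 : T.rel 1 [3, 3] 0 1 = true := by decide +kernel

theorem rel3 : T.rel 1 [4, 4] 0 1 = true := by decide +kernel

theorem rel4 : T.rel 1 [5, 5] 0 1 = true := by decide +kernel

theorem rel5 : T.rel 1 [2, 1, 2, 1, 2, 1] 0 1 = true := by decide +kernel

theorem rel6 : T.rel 1 [5, 1, 5, 1] 0 1 = true := by decide +kernel

theorem rel7 : T.rel 1 [3, 2, 3, 2, 3, 2] 0 1 = true := by decide +kernel

theorem rel8 : T.rel 1 [4, 2, 4, 2] 0 1 = true := by decide +kernel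

theorem rel9 : T.rel 1 [5, 2, 5, 2] 0 1 = true := by decide +kernel

theorem rel10 : T.rel 1 [9, 10, 9, 10, 9, 10, 9, 10, 1] 0 1 = true := by decide +kernel

theorem rel11 : T.rel 1 [5, 3, 5, 3] 0 1 = true := by decide +kernel

theorem rel12 : T.rel 1 [5, 4, 5, 4, 5, 4] 0 1 = true := by decide +kernel

theorem rel13 : T.rel 1 [5, 4, 3, 2, 5, 4, 3, 2, 5, 4, 3, 2, 5, 4, 3, 2, 5, 4, 3, 2, 5, 4, 3, 2, 5, 4, 3, 2, 5, 4, 3, 2] 0 1 = true := by decide +kernel

theorem rel14 : T.rel 1 [6, 6, 6, 6, 6, 6, 6] 0 1 = true := by decide +kernel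

theorem rel15 : T.rel 1 [1, 6, 7, 12] 0 1 = true := by decide +kernel

theorem rel16 : T.rel 1 [2, 6, 8, 12] 0 1 = true := by decide +kernel

theorem rel17 : T.rel 1 [3, 6, 9, 12] 0 1 = true := by decide +kernel

theorem rel18 : T.rel 1 [4, 6, 4, 6] 0 1 = true := by decide +kernel

theorem rel19 : T.rel 1 [6, 6, 6, 11, 12, 12, 5, 12, 11] 0 1 = true := by decide +kernel

theorem rel20 : T.rel 1 [1] 0 1 = true := by decide +kernel

theorem hcov : T.treeCov (ones 1) L 1 = true := by decide +kernel

theorem hg : lall (fun z => band (memL L z) (band (sub (ones 1) (T.let z).cl) (T.closed (ones 1) z))) gs = true := by decide +kernel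

theorem hivk : ivOk (2 * 0) EX IV = true := by decide +kernel

theorem hrt : RT.ok (2 * 0) EX RL = true := by decide +kernel

theorem hdefs : defs F 114 = true := by decide +kernel

noncomputable def st0_l : List Nat := [nat_lit 0x1, nat_lit 0x80039402, nat_lit 0x801, nat_lit 0x1001, nat_lit 0x7500001002, nat_lit 0x760003a4001ce00003000760003a406, nat_lit 0x18003bc02, nat_lit 0x1801, nat_lit 0x2001, nat_lit 0x7a00002002, nat_lit 0x2801, nat_lit 0x280000c000f0000790003e005, nat_lit 0x3001, nat_lit 0x7e00003002, nat_lit 0x7f0003e4001ec0000b0007f0003e406, nat_lit 0x200000fa000808003cc04, nat_lit 0x380040c02, nat_lit 0x3801, nat_lit 0xe0007800041803, nat_lit 0x4001, nat_lit 0x8500004002, nat_lit 0x4801, nat_lit 0x5001, nat_lit 0x140008680044003, nat_lit 0x140008400044003, nat_lit 0x160008680005c03, nat_lit 0x160008400005c03, nat_lit 0x180008480006403, nat_lit 0x6801, nat_lit 0x8e00006802, nat_lit 0x7001, nat_lit 0x7000024001080008700048005, nat_lit 0x7801, nat_lit 0x140008700049003, nat_lit 0x200000900005c03, nat_lit 0x8801,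 nat_lit 0x220008a0004a803, nat_lit 0x240008900009403, nat_lit 0x240008a00009403, nat_lit 0x260008a80009c03, nat_lit 0xa001, nat_lit 0x280000b00003803, nat_lit 0xa801, nat_lit 0x2a0008b8004e003, nat_lit 0x2a0008c8004e003, nat_lit 0x2c0008c8000b403, nat_lit 0xb801, nat_lit 0x2e0008d00050003, nat_lit 0x1060000c80050003, nat_lit 0x320008d8000cc03, nat_lit 0xd001, nat_lit 0xa40000d002, nat_lit 0xa50004840023c0001d000a500048406, nat_lit 0x29800122000a680043c04, nat_lit 0x1e000a780005403, nat_lit 0x20000a780005c03, nat_lit 0xa700004802, nat_lit 0xa800049802, nat_lit 0xa90004a402, nat_lit 0x26000ab00009c03, nat_lit 0xd801, nat_lit 0xe001, nat_lit 0x380009600057803, nat_lit 0x3a000960000ec03, nat_lit 0x3a0001100009c03, nat_lit 0x162000b28004cc03, nat_lit 0xf001, nat_lit 0x3c000988005a003, nat_lit 0x3e000978000fc03, nat_lit 0x10001, nat_lit 0x40000990005b803, nat_lit 0x40000ad0005b803, nat_lit 0x420009980010c03, nat_lit 0x11001, nat_lit 0x11801, nat_lit 0x460009e0005e003, nat_lit 0x480009d00012403, nat_lit 0x480009e00012403, nat_lit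 0x13001, nat_lit 0x4c0009f80060003, nat_lit 0x50000a100014403, nat_lit 0x50000170000cc03, nat_lit 0x184000c380051c03, nat_lit 0x54000a380015403, nat_lit 0x15801, nat_lit 0xc600015802, nat_lit 0x16001, nat_lit 0x1600006c0012c000ae00064005, nat_lit 0x16801, nat_lit 0x5a000b000065003, nat_lit 0x16800070000220000a00003805, nat_lit 0x418002200012a000af00065005, nat_lit 0x19a0008200066003, nat_lit 0x17001, nat_lit 0x5c000b500067803, nat_lit 0x5e000b580017c03, nat_lit 0x60000b680018403, nat_lit 0x18801, nat_lit 0x62000b800069803, nat_lit 0x64000b800019403, nat_lit 0x1a001, nat_lit 0x68000ba0006b003, nat_lit 0x350001080004c000250001f80018406, nat_lit 0x1b001, nat_lit 0x1180005400134000bb0006c805, nat_lit 0x1b801, nat_lit 0x70000bd8001c403, nat_lit 0x70000bc80012403, nat_lit 0x1b8000dd8005fc03, nat_lit 0x72000be8001cc03, nat_lit 0xe4000480009c80005800220000250001f80018408, nat_lit 0x1be000e080069003, nat_lit 0xbc0003c0001f80018400384000720002400012c08, nat_lit 0x1d001, nat_lit 0x74000c100071803, nat_lit 0x78000c18001e403, nat_lit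 0xf00004c000160000580002a00027000b700019408, nat_lit 0xa4000300000c00005c0005a001800003c80073408, nat_lit 0x7a000c28001ec03, nat_lit 0x7a000c480015403, nat_lit 0x1d0000e980062c03, nat_lit 0x1f001, nat_lit 0xf800054000190000600022000027000218001a408, nat_lit 0x1f801, nat_lit 0xed0001f802, nat_lit 0xee0006440031c00059000ee00064406, nat_lit 0x3bc00192000ef80057404, nat_lit 0xf00000d802, nat_lit 0x32e00199000078005500021200015000118007880025a000390002d8006740032e00199000078005500021200015000118007880025a000390002d8006740032e001990000780055000212000150001180078820, nat_lit 0x194000f28004ac03, nat_lit 0x3cc00038000f200066404, nat_lit 0x22000f480003c03, nat_lit 0x144000f400009403, nat_lit 0x137000f400009c03, nat_lit 0x3a000f580005c03, nat_lit 0x50000f68000fc03, nat_lit 0xf600051002, nat_lit 0x44000f780010403, nat_lit 0xf70004dc02, nat_lit 0xf800059c02, nat_lit 0x7a000f980018403, nat_lit 0x6c000fb80018c03, nat_lit 0xfe00075402, nat_lit 0xff0006d002, nat_lit 0x80000d000020403, nat_lit 0x800002e00017c03, nat_lit 0x2040010380068c03,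 nat_lit 0x84000d480021403, nat_lit 0x84000d380019403, nat_lit 0x20a001068006ac03, nat_lit 0x43000198000ca001cc0003c0001dc06, nat_lit 0x22001, nat_lit 0x88000d700084803, nat_lit 0x8a000d700022c03, nat_lit 0x23001, nat_lit 0x10c00023002, nat_lit 0x23801, nat_lit 0x238000dc0017a000db00087005, nat_lit 0x90000de8001cc03, nat_lit 0x12400072000240004e40005a001800003b80084008, nat_lit 0x94000e400025403, nat_lit 0x940003a0001e403, nat_lit 0x2240011380072c03, nat_lit 0x20f000e60008a003, nat_lit 0x26001, nat_lit 0x88000ec0008b003, nat_lit 0x8840038600201000eb0008b005, nat_lit 0x4d0002080010a0022b0004a00025c06, nat_lit 0x9c0010a80027403, nat_lit 0x9c0010980022c03, nat_lit 0x2340011b80085c03, nat_lit 0x27801, nat_lit 0x11d00027802, nat_lit 0x11e000874004340008f0011e00087406, nat_lit 0x47c0021e0011f8006dc04, nat_lit 0x1200001b802, nat_lit 0x4860004600015000464002b2001fb000b70005c0002e4001a6001018005e8004860004600015000464002b2001fb000b70005c0002e4001a6001018005e8004860004600015000464002b2001fb000b70005c020, nat_lit 0x62001220005e403,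 nat_lit 0x48c00203001228005bc04, nat_lit 0x700012280019c03, nat_lit 0x34c00247001248007e804, nat_lit 0x10400247001248007e404, nat_lit 0x108002470012480010c04, nat_lit 0x48001248007e403, nat_lit 0x4a0012480010c03, nat_lit 0x900012580021c03, nat_lit 0x64001268000b403, nat_lit 0x660012680005803, nat_lit 0x9a001278007d003, nat_lit 0x22a001288001ac03, nat_lit 0x72001298007d003, nat_lit 0x680012a00071003, nat_lit 0x2300012b80088803, nat_lit 0x1cf0012c80013403, nat_lit 0x1cd0012c80013c03, nat_lit 0x860012d80006403, nat_lit 0x2320012e8000fc03, nat_lit 0x950012f8006c403, nat_lit 0x1c0001308000f403, nat_lit 0x92001308000fc03, nat_lit 0x880013180082003, nat_lit 0x8a0013180017803, nat_lit 0x9d00045e00265001398000f805, nat_lit 0x4d0000780013300014804, nat_lit 0x27a001340001e003, nat_lit 0x4e400223001358000c404, nat_lit 0x13e0009f8004d800096001378009c406, nat_lit 0x170004e00026e000e3800a0405, nat_lit 0x138002750013c8007d404, nat_lit 0xa08000b8002760011b000a1405, nat_lit 0x41c0050c002760011c000a1405, nat_lit 0x7800a2402, nat_lit 0x28001,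 nat_lit 0xa000078000a3003, nat_lit 0xa000082000a3003, nat_lit 0x28801, nat_lit 0xa200147000a4803, nat_lit 0x288001400028a00146000a4805, nat_lit 0x29001, nat_lit 0x29801, nat_lit 0x14d00029802, nat_lit 0x2a001, nat_lit 0x2a000148002940014c000a7805, nat_lit 0x2a801, nat_lit 0x1510002a802, nat_lit 0x152000a7c00538000a900152000a7c06, nat_lit 0x54c002a000153800a6404, nat_lit 0x15400029002, nat_lit 0x556000a2000500003c0002080028a00146000a3800520002920014b000a5000556000a2000500003c0002080028a00146000a3800520002920014b000a5000556000a2000500003c0002080028a00146000a3820, nat_lit 0x5580029600156800a3404, nat_lit 0x50800abc02, nat_lit 0xac000730002b403, nat_lit 0xac000780002b403, nat_lit 0xac000820002b403, nat_lit 0x2b801, nat_lit 0xae0015a800ae003, nat_lit 0xae00056000a2803, nat_lit 0x2bd00082800af003, nat_lit 0x2c001, nat_lit 0xb000159800b0003, nat_lit 0xb00015a800b0003, nat_lit 0xb2001598002cc03, nat_lit 0x2d001, nat_lit 0xb40015d000b2003, nat_lit 0xb40015f000b2003, nat_lit 0xb60015c8002cc03, nat_lit 0x2e001, nat_lit 0xb800162000b4003,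 nat_lit 0xba001610002ec03, nat_lit 0xbc001628002f403, nat_lit 0x2f801, nat_lit 0xc00016380030403, nat_lit 0x30801, nat_lit 0x2e000160002b800164000b7005, nat_lit 0x650002d80057a000ad0005980030406, nat_lit 0x33001, nat_lit 0xce0016900033c03, nat_lit 0xce0005c0002f403, nat_lit 0x2e400173800b5c03, nat_lit 0xd00016a80034403, nat_lit 0x1a0000ba001608002b000560000ad0005980030408, nat_lit 0x2ea00176800b6803, nat_lit 0x178000b000059800304005dc000d00005d0002f408, nat_lit 0x1a8000be000590002b000562002bc0016400031408, nat_lit 0x188000b40015e8002b400166002d80006a800bcc08, nat_lit 0x35801, nat_lit 0x1a4000bc000580002b000578000b500063800bd808, nat_lit 0x1b0000c80005b000af40015a002c00005e80034c08, nat_lit 0x1b4000c80005b000af400562002bc0005b80032c08, nat_lit 0x37001, nat_lit 0x17f00037002, nat_lit 0x37801, nat_lit 0x37800198002d200171000c0805, nat_lit 0x38001, nat_lit 0x380005d2002f100173000c1805, nat_lit 0x38801, nat_lit 0x18500038802, nat_lit 0x186000c0c00600000df00186000c0c06, nat_lit 0x61c0030400187800b8c04, nat_lit 0x18800033002,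 nat_lit 0x626000b800058000ad40056e002b800164000b2800598002dc0016f000b4800626000b800058000ad40056e002b800164000b2800598002dc0016f000b4800626000b800058000ad40056e002b800164000b2820, nat_lit 0xc20018a000b4403, nat_lit 0x62c002de0018a800b2404, nat_lit 0xce0018a80031403, nat_lit 0x5b8003170018c800ae404, nat_lit 0xba0018c800af403, nat_lit 0xbc0018c8002dc03, nat_lit 0xe00018d800bd003, nat_lit 0x18e000b2402, nat_lit 0xc40018e8002cc03, nat_lit 0xc60018e8002b003, nat_lit 0xd00018f8002b403, nat_lit 0x1900032000178000c8404, nat_lit 0xd20019080032c03, nat_lit 0x167800c98006440030900191800c9c06, nat_lit 0xd600194800ac403, nat_lit 0x2ec00195800c9403, nat_lit 0x3600065a0033100060800cd405, nat_lit 0x1b40032d001988002c804, nat_lit 0xcd8005f60032f0017e000ce405, nat_lit 0x19d000cd0005c00032e0017c800ccc06, nat_lit 0x56800cf402]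
theorem st0 : band (steps F IV RT base st0_l 114) (Nat.beq (Nat.add 114 (llen st0_l)) 416) = true := by decide +kernel

theorem ep0a : T.treePath [] (Nat.shiftLeft 1 0) 1 = true := by decide +kernel

theorem ep0b : T.treePath [] (Nat.shiftLeft 1 0) 1 = true := by decide +kernel

theorem ep0c : band (lall (fun z => Nat.ble z 255) ([] ++ 1 :: [])) (concl F IV 416 0x39801 (encA ([] ++ 1 :: []) 0)) = true := by decide +kernel

theorem ep0d : band (Rule.ok (2 * 0) EX [] ⟨lapp [] [], [], 0, false⟩) (band (lall (memL L) []) (lall (memL L) [])) = true := by decide +kernel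

theorem cov1 : T.cover 1 [(Nat.shiftLeft 1 0)] = true := by decide +kernel

theorem tl1 : Nat.beq (T.let 1).tt 0 = true := by decide +kernel

theorem ep1a : T.treePath [] (Nat.shiftLeft 1 0) 1 = true := by decide +kernel

theorem ep1b : T.treePath [] (Nat.shiftLeft 1 0) 1 = true := by decide +kernel

theorem ep1c : band (lall (fun z => Nat.ble z 255) ([] ++ 2 :: [])) (concl F IV 416 0x3c001 (encA ([] ++ 2 :: []) 0)) = true := by decide +kernel

theorem ep1d : band (Rule.ok (2 * 0) EX [] ⟨lapp [] [], [], 0, false⟩) (band (lall (memL L) []) (lall (memL L) [])) = true := by decide +kernel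

theorem cov2 : T.cover 2 [(Nat.shiftLeft 1 0)] = true := by decide +kernel

theorem tl2 : Nat.beq (T.let 2).tt 0 = true := by decide +kernel

theorem ep2a : T.treePath [] (Nat.shiftLeft 1 0) 1 = true := by decide +kernel

theorem ep2b : T.treePath [] (Nat.shiftLeft 1 0) 1 = true := by decide +kernel

theorem ep2c : band (lall (fun z => Nat.ble z 255) ([] ++ 3 :: [])) (concl F IV 416 0x41001 (encA ([] ++ 3 :: []) 0)) = true := by decide +kernel

theorem ep2d : band (Rule.ok (2 * 0) EX [] ⟨lapp [] [], [], 0, false⟩) (band (lall (memL L) []) (lall (memL L) [])) = true := by decide +kernel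

theorem cov3 : T.cover 3 [(Nat.shiftLeft 1 0)] = true := by decide +kernel

theorem tl3 : Nat.beq (T.let 3).tt 0 = true := by decide +kernel

theorem ep3a : T.treePath [] (Nat.shiftLeft 1 0) 1 = true := by decide +kernel

theorem ep3b : T.treePath [] (Nat.shiftLeft 1 0) 1 = true := by decide +kernel

theorem ep3c : band (lall (fun z => Nat.ble z 255) ([] ++ 4 :: [])) (concl F IV 416 0xa2801 (encA ([] ++ 4 :: []) 0)) = true := by decide +kernel

theorem ep3d : band (Rule.ok (2 * 0) EX [] ⟨lapp [] [], [], 0, false⟩) (band (lall (memL L) []) (lall (memL L) [])) = true := by decide +kernel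

theorem cov4 : T.cover 4 [(Nat.shiftLeft 1 0)] = true := by decide +kernel

theorem tl4 : Nat.beq (T.let 4).tt 0 = true := by decide +kernel

theorem ep4a : T.treePath [] (Nat.shiftLeft 1 0) 1 = true := by decide +kernel

theorem ep4b : T.treePath [] (Nat.shiftLeft 1 0) 1 = true := by decide +kernel

theorem ep4c : band (lall (fun z => Nat.ble z 255) ([] ++ 5 :: [])) (concl F IV 416 0xac001 (encA ([] ++ 5 :: []) 0)) = true := by decide +kernel

theorem ep4d : band (Rule.ok (2 * 0) EX [] ⟨lapp [] [], [], 0, false⟩) (band (lall (memL L) []) (lall (memL L) [])) = true := by decide +kernel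

theorem cov5 : T.cover 5 [(Nat.shiftLeft 1 0)] = true := by decide +kernel

theorem tl5 : Nat.beq (T.let 5).tt 0 = true := by decide +kernel

theorem ep5a : T.treePath [] (Nat.shiftLeft 1 0) 1 = true := by decide +kernel

theorem ep5b : T.treePath [] (Nat.shiftLeft 1 0) 1 = true := by decide +kernel

theorem ep5c : band (lall (fun z => Nat.ble z 255) ([] ++ 6 :: [])) (concl F IV 416 0xcf801 (encA ([] ++ 6 :: []) 0)) = true := by decide +kernel

theorem ep5d : band (Rule.ok (2 * 0) EX [] ⟨lapp [] [], [], 0, false⟩) (band (lall (memL L) []) (lall (memL L) [])) = true := by decide +kernel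

theorem cov6 : T.cover 6 [(Nat.shiftLeft 1 0)] = true := by decide +kernel

theorem tl6 : Nat.beq (T.let 6).tt 0 = true := by decide +kernel

theorem rot7_1 : T.rot 7 [1] (sel (ones 1) ip7 1) = true := by decide +kernel

theorem rot7_1r : band (Rule.ok (2 * 0) EX RL ⟨7 :: [1], [], 21, false⟩) (lall (memL L) [1]) = true := by decide +kernel

theorem cov7 : T.cover 7 [(sel (ones 1) ip7 1)] = true := by decide +kernel

theorem tl7 : Nat.beq (T.let 7).tt 0 = true := by decide +kernel

theorem rot8_1 : T.rot 8 [2] (sel (ones 1) ip8 1) = true := by decide +kernel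

theorem rot8_1r : band (Rule.ok (2 * 0) EX RL ⟨8 :: [2], [], 21, false⟩) (lall (memL L) [2]) = true := by decide +kernel

theorem cov8 : T.cover 8 [(sel (ones 1) ip8 1)] = true := by decide +kernel

theorem tl8 : Nat.beq (T.let 8).tt 0 = true := by decide +kernel

theorem rot9_1 : T.rot 9 [3] (sel (ones 1) ip9 1) = true := by decide +kernel

theorem rot9_1r : band (Rule.ok (2 * 0) EX RL ⟨9 :: [3], [], 21, false⟩) (lall (memL L) [3]) = true := by decide +kernel

theorem cov9 : T.cover 9 [(sel (ones 1) ip9 1)] = true := by decide +kernel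

theorem tl9 : Nat.beq (T.let 9).tt 0 = true := by decide +kernel

theorem rot10_1 : T.rot 10 [4] (sel (ones 1) ip10 1) = true := by decide +kernel

theorem rot10_1r : band (Rule.ok (2 * 0) EX RL ⟨10 :: [4], [], 21, false⟩) (lall (memL L) [4]) = true := by decide +kernel

theorem cov10 : T.cover 10 [(sel (ones 1) ip10 1)] = true := by decide +kernel

theorem tl10 : Nat.beq (T.let 10).tt 0 = true := by decide +kernel

theorem rot11_1 : T.rot 11 [5] (sel (ones 1) ip11 1) = true := by decide +kernel

theorem rot11_1r : band (Rule.ok (2 * 0) EX RL ⟨11 :: [5], [], 21, false⟩) (lall (memL L) [5]) = true := by decide +kernel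

theorem cov11 : T.cover 11 [(sel (ones 1) ip11 1)] = true := by decide +kernel

theorem tl11 : Nat.beq (T.let 11).tt 0 = true := by decide +kernel

theorem rot12_1 : T.rot 12 [6] (sel (ones 1) ip12 1) = true := by decide +kernel

theorem rot12_1r : band (Rule.ok (2 * 0) EX RL ⟨12 :: [6], [], 21, false⟩) (lall (memL L) [6]) = true := by decide +kernel

theorem cov12 : T.cover 12 [(sel (ones 1) ip12 1)] = true := by decide +kernel

theorem tl12 : Nat.beq (T.let 12).tt 0 = true := by decide +kernel

end Cfsg.Agent.Spor.ThLN1
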